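/-
Linear algebra on the 7-dimensional ideal used for the small Ree groups: the dichotomy lemma.
-/
import Cfsg.Prelude.Def_LieTwisted
import Cfsg.Agent.ChevalleyStructure.WordCheck
set_option linter.all false

-- part: ChevalleyStructure/Ree/Bracket
section
set_option autoImplicit false

namespace Cfsg.Agent.ChevalleyStructure.Ree.Bracket

open Cfsg.Lie Cfsg.Agent.ChevalleyStructure.WordCheck
open scoped Matrix

/-- coordinates of the short-root ideal, in the order `-(2a+b), -(a+b), -a, h_a, a, a+b, 2a+b` -/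
def S : Fin 7 → chevG2.Idx :=
  (![Sum.inr 2, Sum.inr 3, Sum.inr 4, Sum.inl 0, Sum.inr 7, Sum.inr 8, Sum.inr 9] : Fin 7 → Fin 2 ⊕ Fin 12)

/-- the other coordinates, in the order `-(3a+2b), -(3a+b), -b, h_b, b, 3a+b, 3a+2b` -/
def L : Fin 7 → chevG2.Idx :=
  (![Sum.inr 0, Sum.inr 1, Sum.inr 5, Sum.inl 1, Sum.inr 6, Sum.inr 10, Sum.inr 11] : Fin 7 → Fin 2 ⊕ Fin 12)

/-- codes of the coordinates in `S` -/
def Sc : Fin 7 → ℕ := ![4, 5, 6, 0, 9, 10, 11]
/-- codes of the coordinates in `L` -/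
def Lc : Fin 7 → ℕ := ![2, 3, 7, 1, 8, 12, 13]

theorem code_S (i : Fin 7) : code chevG2 (S i) = Sc i := by
  fin_cases i <;> rfl

theorem code_L (i : Fin 7) : code chevG2 (L i) = Lc i := by
  fin_cases i <;> rfl

theorem bijective_SL : Function.Bijective (Sum.elim S L) := by
  have : Function.Bijective (Sum.elim S L : Fin 7 ⊕ Fin 7 → Fin 2 ⊕ Fin 12) := by decide
  exact this

theorem sum_split {M : Type*} [AddCommMonoid M] (f : chevG2.Idx → M) :
    ∑ k, f k = ∑ i, f (S i) + ∑ i, f (L i) := by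
  rw [← Fintype.sum_bijective (Sum.elim S L) bijective_SL (fun x => f (Sum.elim S L x)) f (fun _ => rfl),
    Fintype.sum_sum_type]
  rfl

theorem S_injective : Function.Injective S := fun i j h => by
  have := bijective_SL.1 (a₁ := Sum.inl i) (a₂ := Sum.inl j) h
  exact Sum.inl.inj this

theorem L_injective : Function.Injective L := fun i j h => by
  have := bijective_SL.1 (a₁ := Sum.inr i) (a₂ := Sum.inr j) h
  exact Sum.inr.inj this

theorem S_ne_L (i j : Fin 7) : S i ≠ L j := fun h => by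
  have := bijective_SL.1 (a₁ := Sum.inl i) (a₂ := Sum.inr j) h
  cases this

theorem exists_S_or_L (k : chevG2.Idx) : (∃ i, k = S i) ∨ (∃ i, k = L i) := by
  obtain ⟨x, hx⟩ := bijective_SL.2 k
  rcases x with i | i
  · exact Or.inl ⟨i, hx.symm⟩
  · exact Or.inr ⟨i, hx.symm⟩

/-- the action on the ideal of the element of `L` with short coordinates `z` and long coordinates `Y` -/
def Am {K : Type*} [CommRing K] (z Y : Fin 7 → K) : Matrix (Fin 7) (Fin 7) K :=
  !![-z 3, -z 2, z 1, z 0, Y 1, Y 0, 0;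
     -z 4, z 3 - Y 3, -Y 2, -z 1, z 0, 0, -Y 0;
     z 5, -Y 4, z 3 + Y 3, -z 2, 0, -z 0, -Y 1;
     -z 6, z 5, z 4, 0, -z 2, -z 1, z 0;
     Y 5, z 6, 0, z 4, -z 3 - Y 3, Y 2, -z 1;
     Y 6, 0, -z 6, z 5, Y 4, -z 3 + Y 3, z 2;
     0, -Y 6, -Y 5, -z 6, -z 5, z 4, z 3]

/-- the action on the ideal -/
def AmV {K : Type*} [CommRing K] (y : chevG2.Idx → K) : Matrix (Fin 7) (Fin 7) K :=
  Am (fun i => y (S i)) (fun i => y (L i))

/-- the block of a matrix on the ideal -/
def Mb {K : Type*} (g : Matrix chevG2.Idx chevG2.Idx K) : Matrix (Fin 7) (Fin 7) K :=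
  Matrix.of fun i j => g (S i) (S j)

/-- the block of a matrix on the quotient by the ideal -/
def Nb {K : Type*} (g : Matrix chevG2.Idx chevG2.Idx K) : Matrix (Fin 7) (Fin 7) K :=
  Matrix.of fun i j => g (L i) (L j)

theorem Mb_apply {K : Type*} (g : Matrix chevG2.Idx chevG2.Idx K) (i j : Fin 7) :
    Mb g i j = g (S i) (S j) := rfl

theorem Nb_apply {K : Type*} (g : Matrix chevG2.Idx chevG2.Idx K) (i j : Fin 7) :
    Nb g i j = g (L i) (L j) := rfl

/-! ### Symbolic tables -/

/-- symbolic columns of the action on the ideal of the element with symbolic coordinates `y` (by code) -/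
def adCols (y : ℕ → PExpr) (j : ℕ) : List (ℕ × PExpr) :=
  let n : ℕ → PExpr := fun k => .neg (y k)
  match j with
  | 4 => [(4, n 0), (5, n 9), (6, y 10), (0, n 11), (9, y 12), (10, y 13)]
  | 5 => [(4, n 6), (5, .add (y 0) (n 1)), (6, n 8), (0, y 10), (9, y 11), (11, n 13)]
  | 6 => [(4, y 5), (5, n 7), (6, .add (y 0) (y 1)), (0, y 9), (10, n 11), (11, n 12)]
  | 0 => [(4, y 4), (5, n 5), (6, n 6), (9, y 9), (10, y 10), (11, n 11)]
  | 9 => [(4, y 3), (5, y 4), (0, n 6), (9, .add (n 0) (n 1)), (10, y 8), (11, n 10)]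
  | 10 => [(4, y 2), (6, n 4), (0, n 5), (9, y 7), (10, .add (n 0) (y 1)), (11, y 9)]
  | 11 => [(5, n 2), (6, n 3), (0, y 4), (9, n 5), (10, y 6), (11, y 0)]
  | _ => []

/-- symbolic projection onto the ideal -/
def pCols (j : ℕ) : List (ℕ × PExpr) :=
  match j with
  | 4 => [(4, .const 1)]
  | 5 => [(5, .const 1)]
  | 6 => [(6, .const 1)]
  | 0 => [(0, .const 1)]
  | 9 => [(9, .const 1)]
  | 10 => [(10, .const 1)]
  | 11 => [(11, .const 1)]
  | _ => []

/-- inner part of `rowExpr` -/
def rowPart (c j : ℕ) (l : List (ℕ × ℤ × ℕ)) (acc : PExpr) : PExpr :=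
  l.foldr (fun e acc => bif Nat.beq e.1 c then
    .add (.mul (.mul (.const e.2.1) (.pow (.var 14) e.2.2)) (.var j)) acc else acc) acc

/-- the coordinate with code `c` of `x_r(t) y`, `t = var 14`, `y_j = var j` -/
def rowExpr (r c : ℕ) : PExpr :=
  (List.range 14).foldr (fun j acc => rowPart c j (colX chevG2 r j) acc) (.const 0)

/-- left word -/
def w1 (r : ℕ) : List Letter := [.gen (adCols (rowExpr r)), .x r (.var 14), .gen pCols]
/-- right word -/
def w2 (r : ℕ) : List Letter := [.x r (.var 14), .gen (adCols .var)]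


theorem check_all : (List.range 12).all (fun r => check chevG2 3 0 15 (w1 r) (w2 r)) = true := by
  decide +kernel

theorem check_one {r : ℕ} (hr : r < 12) : check chevG2 3 0 15 (w1 r) (w2 r) = true :=
  List.all_eq_true.1 check_all r (List.mem_range.2 hr)

section Sem
variable {K : Type*} [Field K]

theorem denote_rowPart (ρ : ℕ → K) (c j : ℕ) (l : List (ℕ × ℤ × ℕ)) (acc : PExpr) :
    (rowPart c j l acc).denote ρ = colSum (ρ 14) c l * ρ j + acc.denote ρ := by
  induction l with
  | nil => simp [rowPart, colSum]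
  | cons e l ih =>
    have hstep : rowPart c j (e :: l) acc = bif Nat.beq e.1 c then
      .add (.mul (.mul (.const e.2.1) (.pow (.var 14) e.2.2)) (.var j)) (rowPart c j l acc)
      else rowPart c j l acc := rfl
    rw [hstep]
    obtain ⟨a, z, n⟩ := e
    rw [colSum_cons]
    rcases h : Nat.beq a c with _ | _
    · have h' : ¬ a = c := by
        intro h'; rw [h', Nat.beq_refl] at h; exact Bool.noConfusion h
      rw [if_neg h', zero_add]
      simpa using ih
    · rw [if_pos (Nat.eq_of_beq_eq_true h)]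
      simp only [cond_true, PExpr.denote, ih]
      ring

theorem denote_rowExpr_aux (ρ : ℕ → K) (r c : ℕ) (l : List ℕ) :
    (l.foldr (fun j acc => rowPart c j (colX chevG2 r j) acc) (.const 0)).denote ρ =
      (l.map fun j => colSum (ρ 14) c (colX chevG2 r j) * ρ j).sum := by
  induction l with
  | nil => simp [PExpr.denote]
  | cons j l ih =>
    rw [List.foldr_cons, denote_rowPart, ih, List.map_cons, List.sum_cons]

/-- the assignment of values to variables -/
noncomputable def rhoOf (y : chevG2.Idx → K) (t : K) : ℕ → K := Function.extend (code chevG2) y (fun _ => t)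

theorem rhoOf_code (y : chevG2.Idx → K) (t : K) (i : chevG2.Idx) : rhoOf y t (code chevG2 i) = y i :=
  Function.Injective.extend_apply (fun _ _ h => code_inj chevG2 h) y _ i

theorem rhoOf_last (y : chevG2.Idx → K) (t : K) : rhoOf y t 14 = t :=
  Function.extend_apply' y _ _ (fun ⟨i, hi⟩ => by
    have := code_lt chevG2 i
    rw [hi] at this
    exact absurd this (by decide))

theorem sum_range_code (f : ℕ → K) : ((List.range 14).map f).sum = ∑ j : chevG2.Idx, f (code chevG2 j) := by
  have h : ∑ j : chevG2.Idx, f (code chevG2 j) = ∑ a : Fin 2, f (code chevG2 (Sum.inl a)) +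
      ∑ a : Fin 12, f (code chevG2 (Sum.inr a)) :=
    Fintype.sum_sum_type (fun j : Fin 2 ⊕ Fin 12 => f (code chevG2 j))
  have h1 : ∑ a : Fin 2, f (code chevG2 (Sum.inl a)) = f 0 + f 1 := by
    rw [Fin.sum_univ_two]; rfl
  have h2 : ∑ a : Fin 12, f (code chevG2 (Sum.inr a)) =
      f 2 + f 3 + f 4 + f 5 + f 6 + f 7 + f 8 + f 9 + f 10 + f 11 + f 12 + f 13 := by
    simp only [Fin.sum_univ_succ, Fin.sum_univ_zero]
    show f 2 + (f 3 + (f 4 + (f 5 + (f 6 + (f 7 + (f 8 + (f 9 + (f 10 + (f 11 + (f 12 + (f 13 + 0))))))))))) = _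
    ring
  rw [h, h1, h2]
  simp only [List.range, List.range.loop, List.map, List.sum_cons, List.sum_nil]
  ring

theorem denote_rowExpr (y : chevG2.Idx → K) (t : K) {r : ℕ} (hr : r < 12) (i : chevG2.Idx) :
    (rowExpr r (code chevG2 i)).denote (rhoOf y t) = (chevG2.x K r t *ᵥ y) i := by
  unfold rowExpr
  rw [denote_rowExpr_aux, sum_range_code]
  have hr' : r < chevG2.nroots := hr
  unfold ChevalleyDatum.x
  rw [dif_pos hr']
  simp only [Matrix.mulVec, dotProduct]
  apply Finset.sum_congr rfl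
  intro j _
  rw [rhoOf_code, rhoOf_last, xMat_entry]

theorem colEntry_ad (ρ : ℕ → K) (y : ℕ → PExpr) (i j : Fin 7) :
    colEntry ρ (Sc i) (adCols y (Sc j)) = Am (fun k => (y (Sc k)).denote ρ) (fun k => (y (Lc k)).denote ρ) i j := by
  fin_cases i <;> fin_cases j <;>
    simp [colEntry, adCols, Sc, Lc, Am, PExpr.denote] <;> ring

theorem colEntry_ad_row (ρ : ℕ → K) (y : ℕ → PExpr) (i j : Fin 7) :
    colEntry ρ (Lc i) (adCols y (Sc j)) = 0 := by
  fin_cases i <;> fin_cases j <;>
    simp [colEntry, adCols, Sc, Lc, PExpr.denote]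

theorem colEntry_ad_col (ρ : ℕ → K) (y : ℕ → PExpr) (i : ℕ) (j : Fin 7) :
    colEntry ρ i (adCols y (Lc j)) = 0 := by
  fin_cases j <;> simp [colEntry, adCols, Lc]

theorem colEntry_p (ρ : ℕ → K) (i : ℕ) (j : Fin 7) :
    colEntry ρ i (pCols (Sc j)) = if Sc j = i then 1 else 0 := by
  have key : pCols (Sc j) = [(Sc j, .const 1)] := by fin_cases j <;> rfl
  rw [key]
  simp [colEntry, PExpr.denote]

theorem genAd_SS (ρ : ℕ → K) (y : ℕ → PExpr) (i j : Fin 7) :
    (Letter.gen (adCols y)).mat chevG2 ρ (S i) (S j) =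
      Am (fun k => (y (Sc k)).denote ρ) (fun k => (y (Lc k)).denote ρ) i j := by
  rw [← colEntry_ad]
  show colEntry ρ (code chevG2 (S i)) (adCols y (code chevG2 (S j))) = _
  rw [code_S, code_S]

theorem genAd_LS (ρ : ℕ → K) (y : ℕ → PExpr) (i j : Fin 7) :
    (Letter.gen (adCols y)).mat chevG2 ρ (L i) (S j) = 0 := by
  show colEntry ρ (code chevG2 (L i)) (adCols y (code chevG2 (S j))) = _
  rw [code_S, code_L, colEntry_ad_row]

theorem genAd_L (ρ : ℕ → K) (y : ℕ → PExpr) (i : chevG2.Idx) (j : Fin 7) :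
    (Letter.gen (adCols y)).mat chevG2 ρ i (L j) = 0 := by
  show colEntry ρ (code chevG2 i) (adCols y (code chevG2 (L j))) = _
  rw [code_L, colEntry_ad_col]

theorem genP_S (ρ : ℕ → K) (i : chevG2.Idx) (j : Fin 7) :
    (Letter.gen pCols).mat chevG2 ρ i (S j) = if i = S j then 1 else 0 := by
  show colEntry ρ (code chevG2 i) (pCols (code chevG2 (S j))) = _
  rw [code_S, colEntry_p, ← code_S]
  by_cases h : i = S j
  · rw [if_pos h, if_pos (by rw [h])]
  · rw [if_neg h, if_neg (fun h' => h (code_inj chevG2 h'.symm))]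

/-- Equivariance of the action on the ideal under the root elements. -/
theorem AmV_x (h3 : (3 : K) = 0) {r : ℕ} (hr : r < 12) (t : K) (y : chevG2.Idx → K) :
    AmV (chevG2.x K r t *ᵥ y) * Mb (chevG2.x K r t) = Mb (chevG2.x K r t) * AmV y := by
  have h := wmat_eq_of_check chevG2 (rhoOf y t) 3 0 15 (w1 r) (w2 r) (check_one hr)
    (by exact_mod_cast h3) (fun i hi => absurd hi (Nat.not_lt_zero i))
  have hx : (Letter.x r (.var 14)).mat chevG2 (rhoOf y t) = chevG2.x K r t := by
    show chevG2.x K r (rhoOf y t 14) = _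
    rw [rhoOf_last]
  have e1 : wmat chevG2 (rhoOf y t) (w1 r) = (Letter.gen (adCols (rowExpr r))).mat chevG2 (rhoOf y t) *
      (chevG2.x K r t * (Letter.gen pCols).mat chevG2 (rhoOf y t)) := by
    rw [← hx]
    simp only [wmat, w1, List.map_cons, List.map_nil, List.prod_cons, List.prod_nil, mul_one]
  have e2 : wmat chevG2 (rhoOf y t) (w2 r) = chevG2.x K r t *
      (Letter.gen (adCols .var)).mat chevG2 (rhoOf y t) := by
    rw [← hx]
    simp only [wmat, w2, List.map_cons, List.map_nil, List.prod_cons, List.prod_nil, mul_one]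
  rw [e1, e2] at h
  ext i j
  have hij := congrFun (congrFun h (S i)) (S j)
  rw [Matrix.mul_apply, Matrix.mul_apply, sum_split, sum_split] at hij
  simp only [genAd_L, genAd_LS, zero_mul, mul_zero, Finset.sum_const_zero, add_zero, genAd_SS] at hij
  rw [Matrix.mul_apply, Matrix.mul_apply]
  have hP : ∀ k, (chevG2.x K r t * (Letter.gen pCols).mat chevG2 (rhoOf y t)) k (S j) = chevG2.x K r t k (S j) := by
    intro k
    rw [Matrix.mul_apply]
    simp only [genP_S, mul_ite, mul_one, mul_zero, Finset.sum_ite_eq', Finset.mem_univ, if_true]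
  simp only [hP] at hij
  have hA1 : (Am (fun k => (rowExpr r (Sc k)).denote (rhoOf y t)) (fun k => (rowExpr r (Lc k)).denote (rhoOf y t))) =
      AmV (chevG2.x K r t *ᵥ y) := by
    unfold AmV
    congr 1
    · funext k
      rw [← code_S, denote_rowExpr y t hr]
    · funext k
      rw [← code_L, denote_rowExpr y t hr]
  have hA2 : (Am (fun k => (PExpr.var (Sc k)).denote (rhoOf y t)) (fun k => (PExpr.var (Lc k)).denote (rhoOf y t))) =
      AmV y := by
    unfold AmV
    congr 1
    · funext k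
      rw [← code_S]
      exact rhoOf_code y t _
    · funext k
      rw [← code_L]
      exact rhoOf_code y t _
  rw [hA1, hA2] at hij
  exact hij

end Sem

/-! ### Preservation of the ideal -/

/-- symbolic test that the columns in `S` of `x_r(t)` have no entries in the rows `L` modulo 3 -/
theorem col_check : (List.range 12).all (fun r => [4, 5, 6, 0, 9, 10, 11].all fun j =>
    (colX chevG2 r j).all fun e => decide (e.2.1 % 3 = 0) || [4, 5, 6, 0, 9, 10, 11].contains e.1) = true := by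
  decide +kernel

theorem Sc_mem (j : Fin 7) : Sc j ∈ [4, 5, 6, 0, 9, 10, 11] := by
  fin_cases j <;> simp [Sc]

theorem Lc_not_mem (j : Fin 7) : [4, 5, 6, 0, 9, 10, 11].contains (Lc j) = false := by
  fin_cases j <;> rfl

theorem x_LS {K : Type*} [Field K] (h3 : (3 : K) = 0) {r : ℕ} (hr : r < 12) (t : K) (i j : Fin 7) :
    chevG2.x K r t (L i) (S j) = 0 := by
  have hr' : r < chevG2.nroots := hr
  unfold ChevalleyDatum.x
  rw [dif_pos hr', xMat_entry, code_S, code_L]
  have h1 := List.all_eq_true.1 (List.all_eq_true.1 col_check r (List.mem_range.2 hr)) (Sc j) (Sc_mem j)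
  show colSum t (Lc i) (colX chevG2 r (Sc j)) = 0
  generalize colX chevG2 r (Sc j) = l at h1 ⊢
  induction l with
  | nil => rfl
  | cons e l ih =>
    rw [List.all_cons, Bool.and_eq_true] at h1
    obtain ⟨a, z, n⟩ := e
    rw [colSum_cons, ih h1.2, add_zero]
    split_ifs with h
    · have h4 := h1.1
      rw [h, Lc_not_mem, Bool.or_false, decide_eq_true_eq] at h4
      obtain ⟨w, hw⟩ := Int.dvd_of_emod_eq_zero h4
      rw [show z = 3 * w from hw]
      push_cast
      rw [h3]; ring
    · rfl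

end Cfsg.Agent.ChevalleyStructure.Ree.Bracket
end

-- part: ChevalleyStructure/Ree/Dichotomy
section
set_option autoImplicit false

namespace Cfsg.Agent.ChevalleyStructure.Ree.Dichotomy

open Cfsg.Lie Cfsg.Agent.ChevalleyStructure.WordCheck Cfsg.Agent.ChevalleyStructure.Ree.Bracket
open scoped Matrix

variable {K : Type*} [Field K]

/-- `x`, `Am z Y p`, `Am z Y q` are linearly dependent: vanishing of all `3 × 3` minors. -/
def Dep3 (x p q : Fin 7 → K) : Prop :=
  ∀ i j k : Fin 7, x i * (p j * q k - p k * q j) - x j * (p i * q k - p k * q i) +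
    x k * (p i * q j - p j * q i) = 0

/-- The dichotomy lemma. -/
theorem dichotomy (h2 : (2 : K) ≠ 0) (φ : K →+* K) (x z : Fin 7 → K)
    (hA2 : Am z (fun i => φ (x i)) * Am z (fun i => φ (x i)) = 0)
    (hAx : Am z (fun i => φ (x i)) *ᵥ x = 0)
    (h3 : ∀ i j : Fin 7, Dep3 x (fun k => Am z (fun i => φ (x i)) k i) (fun k => Am z (fun i => φ (x i)) k j))
    (hx0 : x 0 = 0) : ∀ i : Fin 7, i ≠ 6 → x i = 0 := by
  have hφ : ∀ a : K, φ a = 0 → a = 0 := fun a ha => (map_eq_zero φ).1 ha
  set Y : Fin 7 → K := fun i => φ (x i) with hY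
  have hY0 : Y 0 = 0 := by rw [hY]; simp [hx0]
  have A2 : ∀ i j, ∑ k, Am z Y i k * Am z Y k j = 0 := fun i j => by
    rw [← Matrix.mul_apply, hA2, Matrix.zero_apply]
  have Ax : ∀ i, ∑ k, Am z Y i k * x k = 0 := fun i => congrFun hAx i
  -- x 1 = 0
  have hx1 : x 1 = 0 := by
    have h := h3 6 4 0 1 2
    simp [Am, hx0, hY0] at h
    rcases h with h | h
    · exact h
    · exact hφ _ h
  have hY1 : Y 1 = 0 := by rw [hY]; simp [hx1]
  have hz0 : z 0 = 0 := by
    have h := A2 0 6
    simp [Am, Fin.sum_univ_succ, hY0, hY1] at h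
    exact h
  have hz1 : z 1 = 0 := by
    have h := A2 1 5
    simp [Am, Fin.sum_univ_succ, hY0, hY1, hz0] at h
    exact h
  have hz2 : z 2 = 0 := by
    have h := A2 2 4
    simp [Am, Fin.sum_univ_succ, hY0, hY1, hz0, hz1] at h
    exact h
  have hx2 : x 2 = 0 := by
    have h := Ax 1
    simp [Am, Fin.sum_univ_succ, hY0, hY1, hz0, hz1, hz2, hx0, hx1] at h
    rcases h with h | h
    · exact hφ _ h
    · exact h
  have hY2 : Y 2 = 0 := by rw [hY]; simp [hx2]
  have e1 : (z 3 + Y 3) = 0 := by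
    have h := A2 4 4
    simp [Am, Fin.sum_univ_succ, hY0, hY1, hY2, hz0, hz1, hz2] at h
    linear_combination -h
  have e2 : (z 3 - Y 3) = 0 := by
    have h := A2 5 5
    simp [Am, Fin.sum_univ_succ, hY0, hY1, hY2, hz0, hz1, hz2] at h
    linear_combination -h
  have hY3 : Y 3 = 0 := by
    have : (2 : K) * Y 3 = 0 := by linear_combination e1 - e2
    rcases mul_eq_zero.1 this with h | h
    · exact absurd h h2
    · exact h
  have hx3 : x 3 = 0 := hφ _ hY3
  have hz3 : z 3 = 0 := by rw [hY3] at e1; simpa using e1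
  have hx4 : x 4 = 0 := by
    have h := Ax 5
    simp [Am, Fin.sum_univ_succ, hY0, hY1, hY2, hY3, hz0, hz1, hz2, hz3, hx0, hx1, hx2, hx3] at h
    rcases h with h | h
    · exact hφ _ h
    · exact h
  have hY4 : Y 4 = 0 := by rw [hY]; simp [hx4]
  have hz4 : z 4 = 0 := by
    have h := A2 4 2
    simp [Am, Fin.sum_univ_succ, hY0, hY1, hY2, hY3, hY4, hz0, hz1, hz2, hz3] at h
    exact h
  have hz5 : z 5 = 0 := by
    have h := A2 5 1
    simp [Am, Fin.sum_univ_succ, hY0, hY1, hY2, hY3, hY4, hz0, hz1, hz2, hz3, hz4] at h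
    exact h
  have hz6 : z 6 = 0 := by
    have h := A2 6 0
    simp [Am, Fin.sum_univ_succ, hY0, hY1, hY2, hY3, hY4, hz0, hz1, hz2, hz3, hz4, hz5] at h
    exact h
  have hx5 : x 5 = 0 := by
    have h := h3 0 2 4 5 6
    simp [Am, hx4, hz6, hz3, hz4, hY3] at h
    rcases h with h | h
    · exact h
    · exact hφ _ h
  intro i hi
  fin_cases i
  · exact hx0
  · exact hx1
  · exact hx2
  · exact hx3
  · exact hx4
  · exact hx5
  · exact absurd rfl hi

end Cfsg.Agent.ChevalleyStructure.Ree.Dichotomy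
end
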