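/-
The blocks on the short-root ideal of the generators of the small Ree groups.
-/
import Cfsg.Agent.ChevalleyStructure.Ree.Bruhat
set_option linter.all false

set_option autoImplicit false
set_option linter.dupNamespace false
set_option linter.unusedSectionVars false

namespace Cfsg.Agent.ChevalleyStructure.Ree.Blocks

open Cfsg.Lie Cfsg.Agent.ChevalleyStructure.WordCheck Cfsg.Agent.ChevalleyStructure.WordEntry
open Cfsg.Agent.ChevalleyStructure.Ree.Bracket Cfsg.Agent.ChevalleyStructure.Ree.Good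
open Cfsg.Agent.ChevalleyStructure.Ree.Checks Cfsg.Agent.ChevalleyStructure.Ree.Words
open Cfsg.Agent.ChevalleyStructure.Ree.Gens Cfsg.Agent.ChevalleyStructure.Ree.Bruhat
open Cfsg.Agent.ChevalleyStructure.ReeFixed (wU1 IsTheta reeWordU_eq)
open scoped Matrix

/-! ### The block of `W` -/

/-- the word of `W` -/
def wW : List Letter := xw wU1

theorem check_low : ∀ i j : Fin 7, i < j → entryZero chevG2 3 0 6 wW (Sc i) (Sc j) = true := by
  decide +kernel

theorem check_diag : ∀ i : Fin 7, entryIs chevG2 3 0 6 wW (Sc i) (Sc i) (.const 1) = true := by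
  decide +kernel

theorem check_10 : entryIs chevG2 3 0 6 wW (Sc 1) (Sc 0) (.neg (.var 1)) = true := by
  decide +kernel

theorem check_20 : entryIs chevG2 3 0 6 wW (Sc 2) (Sc 0) (.add (.mul (.var 1) (.var 0)) (.var 3)) = true := by
  decide +kernel

theorem check_30 : entryIs chevG2 3 0 6 wW (Sc 3) (Sc 0) (.add (.mul (.var 1) (.var 3)) (.neg (.var 5))) = true := by
  decide +kernel

variable {K : Type*} [Field K] {θ : K →+* K} {e : ℕ}

theorem coe_wU' (hθ : IsTheta θ e) (t u v : K) :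
    ((wU e t u v : GL chevG2.Idx K) : Matrix chevG2.Idx chevG2.Idx K) =
      wmat chevG2 (ReeFixed.val t (θ t) u (θ u) v (θ v)) wW := by
  rw [coe_wU]
  unfold W wW
  rw [wmat_xw, reeWordU_eq hθ]

section W
variable (h3 : (3 : K) = 0) (hθ : IsTheta θ e) (t u v : K)
include h3 hθ

theorem W_entry {i j : Fin 7} {p : PExpr} (h : entryIs chevG2 3 0 6 wW (Sc i) (Sc j) p = true) :
    Mb ((wU e t u v : GL chevG2.Idx K) : Matrix chevG2.Idx chevG2.Idx K) i j =
      p.denote (ReeFixed.val t (θ t) u (θ u) v (θ v)) := by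
  rw [coe_wU' hθ, Mb_apply]
  refine entryIs_sound (ch := 3) (L := 0) (nv := 6) (e := p) ?_ (by exact_mod_cast h3)
    (fun i hi => absurd hi (Nat.not_lt_zero _))
  rw [code_S, code_S]
  exact h

theorem W_low (i j : Fin 7) (hij : i < j) :
    Mb ((wU e t u v : GL chevG2.Idx K) : Matrix chevG2.Idx chevG2.Idx K) i j = 0 := by
  rw [coe_wU' hθ, Mb_apply]
  refine entryZero_sound (ch := 3) (L := 0) (nv := 6) ?_ (by exact_mod_cast h3)
    (fun i hi => absurd hi (Nat.not_lt_zero _))
  rw [code_S, code_S]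
  exact check_low i j hij

theorem W_diag (i : Fin 7) :
    Mb ((wU e t u v : GL chevG2.Idx K) : Matrix chevG2.Idx chevG2.Idx K) i i = 1 :=
  (W_entry h3 hθ t u v (check_diag i)).trans (by simp [PExpr.denote])

theorem W_10 : Mb ((wU e t u v : GL chevG2.Idx K) : Matrix chevG2.Idx chevG2.Idx K) 1 0 = -θ t :=
  (W_entry h3 hθ t u v check_10).trans (by simp [PExpr.denote, ReeFixed.val])

theorem W_20 : Mb ((wU e t u v : GL chevG2.Idx K) : Matrix chevG2.Idx chevG2.Idx K) 2 0 = θ t * t + θ u :=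
  (W_entry h3 hθ t u v check_20).trans (by simp [PExpr.denote, ReeFixed.val])

theorem W_30 : Mb ((wU e t u v : GL chevG2.Idx K) : Matrix chevG2.Idx chevG2.Idx K) 3 0 = θ t * θ u - θ v :=
  (W_entry h3 hθ t u v check_30).trans (by simp [PExpr.denote, ReeFixed.val, sub_eq_add_neg])

end W

/-! ### The block of `n` and of the torus -/

theorem rev_S (i j : Fin 7) : nMat K (S i) (S j) = if i.val + j.val = 6 then -1 else 0 := by
  fin_cases i <;> fin_cases j <;> rfl

theorem nMat_LS (i j : Fin 7) : nMat K (L i) (S j) = 0 := by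
  fin_cases i <;> fin_cases j <;> rfl

theorem hMat_LS (α β : K) (i j : Fin 7) : hMat α β (L i) (S j) = 0 := by
  unfold hMat
  rw [Matrix.diagonal_apply_ne]
  exact (S_ne_L j i).symm

/-- the diagonal of the block of the torus elements -/
def dA (α β : K) : Fin 7 → K := ![(α ^ 2)⁻¹ * β⁻¹, α⁻¹ * β⁻¹, α⁻¹, 1, α, α * β, α ^ 2 * β]

theorem Mb_hMat (α β : K) : Mb (hMat α β) = Matrix.diagonal (dA α β) := by
  ext i j
  rw [Mb_apply, hMat, Matrix.diagonal_apply, Matrix.diagonal_apply]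
  by_cases h : i = j
  · subst h
    rw [if_pos rfl, if_pos rfl]
    fin_cases i
    · show α ^ (-2 : ℤ) * β ^ (-1 : ℤ) = _
      rw [zpow_neg, zpow_neg, zpow_one, zpow_ofNat]; rfl
    · show α ^ (-1 : ℤ) * β ^ (-1 : ℤ) = _
      rw [zpow_neg, zpow_neg, zpow_one, zpow_one]; rfl
    · show α ^ (-1 : ℤ) * β ^ (0 : ℤ) = _
      rw [zpow_neg, zpow_one, zpow_zero, mul_one]; rfl
    · rfl
    · show α ^ (1 : ℤ) * β ^ (0 : ℤ) = _
      rw [zpow_one, zpow_zero, mul_one]; rfl
    · show α ^ (1 : ℤ) * β ^ (1 : ℤ) = _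
      rw [zpow_one, zpow_one]; rfl
    · show α ^ (2 : ℤ) * β ^ (1 : ℤ) = _
      rw [zpow_one, zpow_ofNat]; rfl
  · rw [if_neg h, if_neg (fun h' => h (S_injective h'))]

theorem nMat_hMat (α β : K) : nMat K * hMat α β = hMat α⁻¹ β⁻¹ * nMat K := by
  unfold hMat
  ext i j
  rw [Matrix.mul_diagonal, Matrix.diagonal_mul]
  rcases i with i | i <;> rcases j with j | j
  · simp
  · simp [nMat]
  · simp [nMat]
  · have hA : ∀ i j : Fin 12, i.val + j.val = 11 → rootA j.val = -rootA i.val ∧ rootB j.val = -rootB i.val := by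
      decide
    by_cases h : i.val + j.val = 11
    · obtain ⟨h1, h2⟩ := hA i j h
      show nMat K (Sum.inr i) (Sum.inr j) * (α ^ rootA j.val * β ^ rootB j.val) =
        (α⁻¹ ^ rootA i.val * β⁻¹ ^ rootB i.val) * nMat K (Sum.inr i) (Sum.inr j)
      rw [h1, h2, zpow_neg, zpow_neg, inv_zpow, inv_zpow, mul_comm]
    · have h0 : nMat K (Sum.inr i) (Sum.inr j) = 0 := by
        show (if i.val + j.val = 11 then (-1 : K) else 0) = 0
        rw [if_neg h]
      rw [h0, zero_mul, mul_zero]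

theorem nU_hU (α β : Kˣ) : nU K * hU α β = hU α⁻¹ β⁻¹ * nU K := by
  apply Units.ext
  rw [Units.val_mul, Units.val_mul, coe_nU, coe_hU, coe_hU, nMat_hMat,
    Units.val_inv_eq_inv_val, Units.val_inv_eq_inv_val]

theorem nU_tU (e : ℕ) (α : Kˣ) : nU K * tU e α = tU e α⁻¹ * nU K := by
  rw [tU, nU_hU, tU, inv_pow]

end Cfsg.Agent.ChevalleyStructure.Ree.Blocks
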