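/-
The Bruhat normal form of the small Ree groups.
-/
import Cfsg.Agent.ChevalleyStructure.Ree.Blocks
set_option linter.all false

set_option autoImplicit false
set_option linter.dupNamespace false
set_option linter.unusedSectionVars false

namespace Cfsg.Agent.ChevalleyStructure.Ree.Normal

open Cfsg.Lie Cfsg.Agent.ChevalleyStructure.WordCheck Cfsg.Agent.ChevalleyStructure.WordEntry
open Cfsg.Agent.ChevalleyStructure.Ree.Bracket Cfsg.Agent.ChevalleyStructure.Ree.Good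
open Cfsg.Agent.ChevalleyStructure.Ree.Checks Cfsg.Agent.ChevalleyStructure.Ree.Words
open Cfsg.Agent.ChevalleyStructure.Ree.Gens Cfsg.Agent.ChevalleyStructure.Ree.Bruhat
open Cfsg.Agent.ChevalleyStructure.Ree.Blocks
open Cfsg.Agent.ChevalleyStructure.ReeFixed (IsTheta)
open scoped Matrix

/-! ### Lower unitriangular matrices -/

section Tri
variable {K : Type*} [CommRing K] {M X : Matrix (Fin 7) (Fin 7) K} (hlow : ∀ i j : Fin 7, i < j → M i j = 0)
  (hdiag : ∀ i, M i i = 1) (j : Fin 7)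
include hlow hdiag

theorem tri0 : (M * X) 0 j = X 0 j := by
  rw [Matrix.mul_apply, Finset.sum_eq_single 0]
  · rw [hdiag, one_mul]
  · intro b _ hb
    rw [hlow 0 b (Fin.pos_of_ne_zero hb), zero_mul]
  · intro h; exact absurd (Finset.mem_univ _) h

theorem tri1 : (M * X) 1 j = M 1 0 * X 0 j + X 1 j := by
  rw [Matrix.mul_apply]
  simp only [Fin.sum_univ_succ, Fin.sum_univ_zero]
  have h1 := hdiag 1
  have a2 := hlow 1 2 (by decide)
  have a3 := hlow 1 3 (by decide)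
  have a4 := hlow 1 4 (by decide)
  have a5 := hlow 1 5 (by decide)
  have a6 := hlow 1 6 (by decide)
  simp [h1, a2, a3, a4, a5, a6]

theorem tri2 (hx1 : X 1 j = 0) : (M * X) 2 j = M 2 0 * X 0 j + X 2 j := by
  rw [Matrix.mul_apply]
  simp only [Fin.sum_univ_succ, Fin.sum_univ_zero]
  have h1 := hdiag 2
  have a3 := hlow 2 3 (by decide)
  have a4 := hlow 2 4 (by decide)
  have a5 := hlow 2 5 (by decide)
  have a6 := hlow 2 6 (by decide)
  simp [h1, a3, a4, a5, a6, hx1]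

theorem tri3 (hx1 : X 1 j = 0) (hx2 : X 2 j = 0) : (M * X) 3 j = M 3 0 * X 0 j + X 3 j := by
  rw [Matrix.mul_apply]
  simp only [Fin.sum_univ_succ, Fin.sum_univ_zero]
  have h1 := hdiag 3
  have a4 := hlow 3 4 (by decide)
  have a5 := hlow 3 5 (by decide)
  have a6 := hlow 3 6 (by decide)
  simp [h1, a4, a5, a6, hx1, hx2]

theorem tri_last (hx : ∀ i : Fin 7, i ≠ 6 → X i j = 0) (i : Fin 7) (hi : i ≠ 6) : (M * X) i j = 0 := by
  rw [Matrix.mul_apply]
  apply Finset.sum_eq_zero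
  intro k _
  by_cases hk : k = 6
  · have h : i < k := by
      rw [hk]
      exact lt_of_le_of_ne (Fin.le_last i) hi
    rw [hlow i k h, zero_mul]
  · rw [hx k hk, mul_zero]

theorem tri_last' (hx : ∀ i : Fin 7, i ≠ 6 → X i j = 0) : (M * X) 6 j = X 6 j := by
  rw [Matrix.mul_apply, Finset.sum_eq_single 6]
  · rw [hdiag, one_mul]
  · intro b _ hb
    rw [hx b hb, mul_zero]
  · intro h; exact absurd (Finset.mem_univ _) h

end Tri

/-- The standing hypotheses: `K` has `3^(2m+1)` elements, `e = 3^m`, `θ` is the `e`-th power map. -/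
structure Ctx {K : Type*} [Field K] (θ : K →+* K) (e : ℕ) : Prop where
  finite : Finite K
  isTheta : IsTheta θ e
  theta : Theta K e
  torus : ∀ α : Kˣ, tU e α ∈ twistedG2 K e

theorem exists_ctx {K : Type*} [Field K] [Fintype K] {m : ℕ} (hK : Fintype.card K = 3 ^ (2 * m + 1)) :
    ∃ θ : K →+* K, Ctx θ (3 ^ m) := by
  obtain ⟨_, θ, hθ⟩ := ReeFixed.exists_theta hK
  exact ⟨θ, inferInstance, hθ, theta_of_card hK, tU_mem hK⟩

variable {K : Type*} [Field K] {θ : K →+* K} {e : ℕ}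

/-- the matrix of an element of `GL` -/
local notation "⟦" g "⟧" => ((g : GL chevG2.Idx K) : Matrix chevG2.Idx chevG2.Idx K)

/-- the block of a unit on the ideal -/
def B (g : GL chevG2.Idx K) : Matrix (Fin 7) (Fin 7) K := Mb (g : Matrix chevG2.Idx chevG2.Idx K)

namespace Ctx

variable (c : Ctx θ e)
include c

theorem h3 : (3 : K) = 0 := c.theta.three'

theorem two_ne : (2 : K) ≠ 0 := fun h => by
  have h3 := c.h3
  have : (1 : K) = 0 := by linear_combination h3 - h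
  exact one_ne_zero this

theorem theta_eq (x : K) : θ x = x ^ e := c.isTheta.eq_pow x

theorem theta_phi (x : K) : θ ((x ^ e) ^ 3) = x := by
  rw [c.theta_eq, c.theta.inv']

theorem exists_theta (x : K) : ∃ y, θ y = x := ⟨_, c.theta_phi x⟩

theorem good {g : GL chevG2.Idx K} (hg : g ∈ twistedG2 K e) : Good.Good (phi θ c.h3) ⟦g⟧ := by
  have := c.finite
  exact good_of_mem c.h3 c.isTheta hg

theorem B_mul {g h : GL chevG2.Idx K} (hh : h ∈ twistedG2 K e) : B (g * h) = B g * B h := by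
  unfold B
  rw [Units.val_mul, Mb_mul (c.good hh).ideal]

theorem B_inv {g : GL chevG2.Idx K} (hg : g ∈ twistedG2 K e) : B g * B g⁻¹ = 1 := by
  rw [← c.B_mul (inv_mem hg), mul_inv_cancel]
  exact Mb_one

theorem B_inj {g h : GL chevG2.Idx K} (hg : g ∈ twistedG2 K e) (hh : h ∈ twistedG2 K e) (hB : B g = B h) :
    g = h :=
  Units.ext (eq_of_Mb_eq (c.good hg) (c.good hh) (B g⁻¹) (c.B_inv hg) hB)

theorem nU_mem : nU K ∈ twistedG2 K e := Gens.nU_mem c.theta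

omit c in
theorem B_nU (i j : Fin 7) : B (nU K) i j = if i.val + j.val = 6 then -1 else 0 := rev_S i j

theorem B_n_mul {g : GL chevG2.Idx K} (hg : g ∈ twistedG2 K e) (i j : Fin 7) :
    B (nU K * g) i j = - B g i.rev j := by
  rw [c.B_mul hg, Matrix.mul_apply, Finset.sum_eq_single i.rev]
  · rw [B_nU, if_pos (by rw [Fin.val_rev]; omega), neg_one_mul]
  · intro b _ hb
    rw [B_nU, if_neg, zero_mul]
    intro h
    apply hb
    ext
    rw [Fin.val_rev]; omega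
  · intro h; exact absurd (Finset.mem_univ _) h

theorem B_mul_n (g : GL chevG2.Idx K) (i j : Fin 7) :
    B (g * nU K) i j = - B g i j.rev := by
  rw [c.B_mul c.nU_mem, Matrix.mul_apply, Finset.sum_eq_single j.rev]
  · rw [B_nU, if_pos (by rw [Fin.val_rev]; omega), mul_neg_one]
  · intro b _ hb
    rw [B_nU, if_neg, mul_zero]
    intro h
    apply hb
    ext
    rw [Fin.val_rev]; omega
  · intro h; exact absurd (Finset.mem_univ _) h

/-! ### The elements of `U` -/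

theorem wU_mul_inv (t u v : K) : wU e t u v * wU e (-t) (-u - t * (t ^ e) ^ 3) (-v - u * t + t ^ 2 * (t ^ e) ^ 3) = 1 := by
  have h3 := c.h3
  rw [wU_mul c.theta, c.theta.neg, ← wU_zero c.theta]
  congr 1
  · ring
  · ring
  · linear_combination (t ^ 2 * (t ^ e) ^ 3) * h3

theorem wU_inv (t u v : K) :
    (wU e t u v)⁻¹ = wU e (-t) (-u - t * (t ^ e) ^ 3) (-v - u * t + t ^ 2 * (t ^ e) ^ 3) :=
  inv_eq_of_mul_eq_one_right (c.wU_mul_inv t u v)

theorem B_low (t u v : K) (i j : Fin 7) (hij : i < j) : B (wU e t u v) i j = 0 :=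
  W_low c.h3 c.isTheta t u v i j hij

theorem B_diag (t u v : K) (i : Fin 7) : B (wU e t u v) i i = 1 :=
  W_diag c.h3 c.isTheta t u v i

theorem B_10 (t u v : K) : B (wU e t u v) 1 0 = -θ t := W_10 c.h3 c.isTheta t u v
theorem B_20 (t u v : K) : B (wU e t u v) 2 0 = θ t * t + θ u := W_20 c.h3 c.isTheta t u v
theorem B_30 (t u v : K) : B (wU e t u v) 3 0 = θ t * θ u - θ v := W_30 c.h3 c.isTheta t u v

/-! ### The torus -/

theorem phi_pow (x : K) : phi θ c.h3 x = x ^ (3 * e) := by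
  rw [phi_apply, c.theta_eq, ← pow_mul, mul_comm]

theorem phi_phi (x : K) : phi θ c.h3 (phi θ c.h3 x) = x ^ 3 := by
  rw [phi_apply, phi_apply, map_pow, ← pow_mul, mul_comm 3 3, pow_mul, c.isTheta.cube]

theorem B_tU (α : Kˣ) : B (tU e α) = Matrix.diagonal (dfun (phi θ c.h3) ((α : K) ^ 2 * phi θ c.h3 α)) := by
  unfold B
  rw [coe_tU, Mb_hMat]
  congr 1
  have hβ : ((α : K) ^ (3 * e)) = phi θ c.h3 α := (c.phi_pow _).symm
  have hα : (α : K) ≠ 0 := α.ne_zero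
  have hβ0 : phi θ c.h3 (α : K) ≠ 0 := by rw [← hβ]; exact pow_ne_zero _ hα
  have hφ : phi θ c.h3 ((α : K) ^ 2 * phi θ c.h3 α) = (phi θ c.h3 (α : K)) ^ 2 * (α : K) ^ 3 := by
    rw [map_mul, map_pow, c.phi_phi]
  rw [hβ]
  unfold dA dfun
  rw [hφ]
  generalize phi θ c.h3 (α : K) = β at hβ0 ⊢
  funext i
  fin_cases i
  · simp only [Matrix.cons_val_zero, Fin.zero_eta]
    rw [mul_inv]
  · simp
    field_simp
  · simp
    field_simp
  · rfl
  · simp
    field_simp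
  · simp
    field_simp
  · rfl

/-- the torus parameter of a diagonal element -/
theorem exists_tU {d : K} (hd : d ≠ 0) : ∃ α : Kˣ, (α : K) ^ 2 * phi θ c.h3 α = d := by
  have hφ : phi θ c.h3 d ≠ 0 := by
    rw [c.phi_pow]; exact pow_ne_zero _ hd
  refine ⟨Units.mk0 (d ^ 2 * (phi θ c.h3 d)⁻¹) (mul_ne_zero (pow_ne_zero _ hd) (inv_ne_zero hφ)), ?_⟩
  rw [Units.val_mk0, map_mul, map_inv₀, c.phi_phi, map_pow]
  field_simp

theorem tU_param_inj {α β : Kˣ} (h : (α : K) ^ 2 * phi θ c.h3 α = (β : K) ^ 2 * phi θ c.h3 β) : α = β := by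
  have key : ∀ γ : Kˣ, ((γ : K) ^ 2 * phi θ c.h3 γ) ^ 2 * (phi θ c.h3 ((γ : K) ^ 2 * phi θ c.h3 γ))⁻¹ = γ := by
    intro γ
    have hγ : (γ : K) ≠ 0 := γ.ne_zero
    have hφ : phi θ c.h3 (γ : K) ≠ 0 := by
      rw [c.phi_pow]; exact pow_ne_zero _ hγ
    rw [map_mul, map_pow, c.phi_phi]
    field_simp
  apply Units.ext
  rw [← key α, ← key β, h]

/-! ### Reduction of the last column -/

theorem reduce0 {g : GL chevG2.Idx K} (hg : g ∈ twistedG2 K e) (h0 : B g 0 6 ≠ 0) :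
    ∃ t u v, ∀ i : Fin 7, i ≠ 0 → B (wU e t u v * g) i 6 = 0 := by
  have T := fun t u v => c.B_low t u v
  have D := fun t u v => c.B_diag t u v
  have z0 : θ (0 : K) = 0 := map_zero θ
  obtain ⟨t, ht⟩ := c.exists_theta (B g 1 6 / B g 0 6)
  obtain ⟨g1, hg1⟩ : ∃ g1, g1 = wU e t 0 0 * g := ⟨_, rfl⟩
  have m1 : g1 ∈ twistedG2 K e := by rw [hg1]; exact mul_mem (wU_mem _ _ _ _) hg
  have a0 : B g1 0 6 = B g 0 6 := by rw [hg1, c.B_mul hg, tri0 (T _ _ _) (D _ _ _)]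
  have a1 : B g1 1 6 = 0 := by
    rw [hg1, c.B_mul hg, tri1 (T _ _ _) (D _ _ _), c.B_10, ht]
    field_simp
    ring
  have h1 : B g1 0 6 ≠ 0 := by rw [a0]; exact h0
  obtain ⟨u, hu⟩ := c.exists_theta (-(B g1 2 6 / B g1 0 6))
  obtain ⟨g2, hg2⟩ : ∃ g2, g2 = wU e 0 u 0 * g1 := ⟨_, rfl⟩
  have m2 : g2 ∈ twistedG2 K e := by rw [hg2]; exact mul_mem (wU_mem _ _ _ _) m1
  have b0 : B g2 0 6 = B g1 0 6 := by rw [hg2, c.B_mul m1, tri0 (T _ _ _) (D _ _ _)]
  have b1 : B g2 1 6 = 0 := by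
    rw [hg2, c.B_mul m1, tri1 (T _ _ _) (D _ _ _), c.B_10, a1, z0]
    ring
  have b2 : B g2 2 6 = 0 := by
    rw [hg2, c.B_mul m1, tri2 (T _ _ _) (D _ _ _) _ a1, c.B_20, hu]
    field_simp
    ring
  have h2 : B g2 0 6 ≠ 0 := by rw [b0]; exact h1
  obtain ⟨v, hv⟩ := c.exists_theta (B g2 3 6 / B g2 0 6)
  obtain ⟨g3, hg3⟩ : ∃ g3, g3 = wU e 0 0 v * g2 := ⟨_, rfl⟩
  have m3 : g3 ∈ twistedG2 K e := by rw [hg3]; exact mul_mem (wU_mem _ _ _ _) m2
  have c0 : B g3 0 6 = B g2 0 6 := by rw [hg3, c.B_mul m2, tri0 (T _ _ _) (D _ _ _)]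
  have c1 : B g3 1 6 = 0 := by
    rw [hg3, c.B_mul m2, tri1 (T _ _ _) (D _ _ _), c.B_10, b1, z0]
    ring
  have c2 : B g3 2 6 = 0 := by
    rw [hg3, c.B_mul m2, tri2 (T _ _ _) (D _ _ _) _ b1, c.B_20, b2, z0]
    ring
  have c3 : B g3 3 6 = 0 := by
    rw [hg3, c.B_mul m2, tri3 (T _ _ _) (D _ _ _) _ b1 b2, c.B_30, hv, z0]
    field_simp
    ring
  have h3 : B g3 0 6 ≠ 0 := by rw [c0]; exact h2
  have q : B g3 6 6 = 0 := col6_quadric (c.good m3) (c.B_inv m3) c.two_ne h3 c1 c2 c3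
  have mn : nU K * g3 ∈ twistedG2 K e := mul_mem c.nU_mem m3
  have n0 : B (nU K * g3) 0 6 = 0 := by
    rw [c.B_n_mul m3]
    show -B g3 6 6 = 0
    rw [q, neg_zero]
  have n6 := col6_dichotomy (c.good mn) (c.B_inv mn) c.two_ne n0
  have e3 : ∀ i : Fin 7, i ≠ 0 → B g3 i 6 = 0 := by
    intro i hi
    have := n6 i.rev (by
      intro h
      apply hi
      rw [← Fin.rev_rev i, h]; rfl)
    have h4 : B (nU K * g3) i.rev 6 = 0 := this
    rw [c.B_n_mul m3, Fin.rev_rev, neg_eq_zero] at h4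
    exact h4
  rw [hg3, hg2, hg1, ← mul_assoc, ← mul_assoc, wU_mul c.theta, wU_mul c.theta] at e3
  exact ⟨_, _, _, e3⟩

/-- The elements stabilising the line of the highest coordinate. -/
theorem normal_B {g : GL chevG2.Idx K} (hg : g ∈ twistedG2 K e) (h0 : B g 0 6 = 0) :
    ∃ t u v α, g = wU e t u v * tU e α := by
  have h6 : ∀ i : Fin 7, i ≠ 6 → B g i 6 = 0 := col6_dichotomy (c.good hg) (c.B_inv hg) c.two_ne h0
  have hBi : B g⁻¹ * B g = 1 := mul_eq_one_comm.1 (c.B_inv hg)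
  -- the entry (0,0) is nonzero
  have mn : g * nU K ∈ twistedG2 K e := mul_mem hg c.nU_mem
  have h00 : B (g * nU K) 0 6 ≠ 0 := by
    intro h
    have h7 : ∀ i : Fin 7, i ≠ 6 → B (g * nU K) i 6 = 0 :=
      col6_dichotomy (c.good mn) (c.B_inv mn) c.two_ne h
    have h8 : ∀ i : Fin 7, i ≠ 6 → B g i 0 = 0 := by
      intro i hi
      have := h7 i hi
      rw [c.B_mul_n] at this
      exact neg_eq_zero.1 this
    -- the columns 0 and 6 are proportional
    have e00 : (B g⁻¹ * B g) 0 0 = 1 := by rw [hBi]; rfl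
    have e06 : (B g⁻¹ * B g) 0 6 = 0 := by rw [hBi]; rfl
    have e66 : (B g⁻¹ * B g) 6 6 = 1 := by rw [hBi]; rfl
    rw [Matrix.mul_apply, Finset.sum_eq_single 6 (fun k _ hk => by rw [h8 k hk, mul_zero])
      (fun h => absurd (Finset.mem_univ _) h)] at e00
    rw [Matrix.mul_apply, Finset.sum_eq_single 6 (fun k _ hk => by rw [h6 k hk, mul_zero])
      (fun h => absurd (Finset.mem_univ _) h)] at e06 e66
    rcases mul_eq_zero.1 e06 with h | h
    · rw [h, zero_mul] at e00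
      exact zero_ne_one e00
    · rw [h, mul_zero] at e66
      exact zero_ne_one e66
  obtain ⟨t, u, v, hw⟩ := c.reduce0 mn h00
  have m : wU e t u v * g ∈ twistedG2 K e := mul_mem (wU_mem _ _ _ _) hg
  have k0 : ∀ i : Fin 7, i ≠ 0 → B (wU e t u v * g) i 0 = 0 := by
    intro i hi
    have := hw i hi
    rw [← mul_assoc, c.B_mul_n] at this
    exact neg_eq_zero.1 this
  have k6 : ∀ i : Fin 7, i ≠ 6 → B (wU e t u v * g) i 6 = 0 := by
    intro i hi
    rw [c.B_mul hg]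
    exact tri_last (c.B_low t u v) (c.B_diag t u v) 6 h6 i hi
  obtain ⟨hd, hdiag⟩ := rigid (c.good m) (c.B_inv m) k6 k0
  obtain ⟨α, hα⟩ := c.exists_tU hd
  have hm : wU e t u v * g = tU e α := by
    apply c.B_inj m (c.torus α)
    rw [c.B_tU, hα]
    exact hdiag
  have hg' : g = (wU e t u v)⁻¹ * tU e α := by rw [← hm, inv_mul_cancel_left]
  rw [c.wU_inv] at hg'
  exact ⟨_, _, _, α, hg'⟩

theorem tU_wU (α : Kˣ) (t u v : K) : tU e α * wU e t u v =
    wU e ((α : K) ^ (3 * e) * t) ((α : K) ^ (3 * e) * (α : K) ^ 3 * u) ((α : K) ^ (6 * e) * (α : K) ^ 3 * v) * tU e α := by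
  rw [← tU_conj_wU c.theta, inv_mul_cancel_right]

theorem wU_tU (α : Kˣ) (t u v : K) : ∃ t' u' v', wU e t u v * tU e α = tU e α * wU e t' u' v' := by
  have h := c.tU_wU α⁻¹ t u v
  have h1 : tU e α * (tU e α⁻¹ * wU e t u v) * tU e α = wU e t u v * tU e α := by
    rw [← mul_assoc, tU_mul, mul_inv_cancel, tU_one, one_mul]
  rw [h, mul_assoc, mul_assoc, tU_mul, inv_mul_cancel, tU_one, mul_one] at h1
  exact ⟨_, _, _, h1.symm⟩

/-- Bruhat decomposition. -/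
theorem bruhat {g : GL chevG2.Idx K} (hg : g ∈ twistedG2 K e) :
    (∃ t u v α, g = wU e t u v * tU e α) ∨
      ∃ t u v α t' u' v', g = wU e t u v * tU e α * nU K * wU e t' u' v' := by
  by_cases h0 : B g 0 6 = 0
  · exact Or.inl (c.normal_B hg h0)
  right
  obtain ⟨t, u, v, hw⟩ := c.reduce0 hg h0
  have m1 : wU e t u v * g ∈ twistedG2 K e := mul_mem (wU_mem _ _ _ _) hg
  have m2 : nU K * (wU e t u v * g) ∈ twistedG2 K e := mul_mem c.nU_mem m1
  have h1 : B (nU K * (wU e t u v * g)) 0 6 = 0 := by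
    rw [c.B_n_mul m1]
    show -B (wU e t u v * g) 6 6 = 0
    rw [hw 6 (by decide), neg_zero]
  obtain ⟨t', u', v', α, h2⟩ := c.normal_B m2 h1
  have h3 : g = (wU e t u v)⁻¹ * (nU K * (wU e t' u' v' * tU e α)) := by
    rw [← h2, ← mul_assoc (nU K), nU_mul_self, one_mul, inv_mul_cancel_left]
  obtain ⟨t'', u'', v'', h4⟩ := c.wU_tU α t' u' v'
  rw [h4, c.wU_inv, ← mul_assoc (nU K), nU_tU, ← mul_assoc, ← mul_assoc] at h3
  exact ⟨_, _, _, α⁻¹, t'', u'', v'', h3⟩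

/-! ### Uniqueness -/

theorem wU_inj {t u v t' u' v' : K} (h1 : B (wU e t u v) 1 0 = B (wU e t' u' v') 1 0)
    (h2 : B (wU e t u v) 2 0 = B (wU e t' u' v') 2 0) (h3 : B (wU e t u v) 3 0 = B (wU e t' u' v') 3 0) :
    t = t' ∧ u = u' ∧ v = v' := by
  rw [c.B_10, c.B_10, neg_inj] at h1
  have ht : t = t' := θ.injective h1
  subst ht
  rw [c.B_20, c.B_20, add_right_inj] at h2
  have hu : u = u' := θ.injective h2
  subst hu
  rw [c.B_30, c.B_30, sub_right_inj] at h3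
  exact ⟨rfl, rfl, θ.injective h3⟩

/-- the torus parameter as a field element -/
def dd (α : Kˣ) : K := (α : K) ^ 2 * phi θ c.h3 α

theorem dd_ne (α : Kˣ) : c.dd α ≠ 0 := by
  unfold dd
  rw [c.phi_pow]
  exact mul_ne_zero (pow_ne_zero _ α.ne_zero) (pow_ne_zero _ α.ne_zero)

/-- last column of `w * t` -/
theorem B_wt6 (t u v : K) (α : Kˣ) (i : Fin 7) :
    B (wU e t u v * tU e α) i 6 = B (wU e t u v) i 6 * c.dd α := by
  rw [c.B_mul (c.torus α), c.B_tU, Matrix.mul_diagonal]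
  rfl

theorem B_wt0 (t u v : K) (α : Kˣ) (i : Fin 7) :
    B (wU e t u v * tU e α) i 0 = B (wU e t u v) i 0 * (c.dd α)⁻¹ := by
  rw [c.B_mul (c.torus α), c.B_tU, Matrix.mul_diagonal]
  rfl

/-- last column of `w t n w'` -/
theorem B_wtnw (t u v : K) (α : Kˣ) (t' u' v' : K) (i : Fin 7) :
    B (wU e t u v * tU e α * nU K * wU e t' u' v') i 6 = -(B (wU e t u v) i 0 * (c.dd α)⁻¹) := by
  rw [c.B_mul (wU_mem _ _ _ _), Matrix.mul_apply, Finset.sum_eq_single 6]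
  · rw [c.B_diag, mul_one, c.B_mul_n]
    show -B (wU e t u v * tU e α) i 0 = _
    rw [c.B_wt0]
  · intro b _ hb
    rw [c.B_low t' u' v' b 6 (lt_of_le_of_ne (Fin.le_last b) hb), mul_zero]
  · intro h; exact absurd (Finset.mem_univ _) h

theorem inj1 {t u v : K} {α : Kˣ} {t' u' v' : K} {α' : Kˣ}
    (h : wU e t u v * tU e α = wU e t' u' v' * tU e α') : t = t' ∧ u = u' ∧ v = v' ∧ α = α' := by
  have h6 : B (wU e t u v * tU e α) 6 6 = B (wU e t' u' v' * tU e α') 6 6 := by rw [h]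
  rw [c.B_wt6, c.B_wt6, c.B_diag, c.B_diag, one_mul, one_mul] at h6
  have hα : α = α' := c.tU_param_inj h6
  subst hα
  have hw : wU e t u v = wU e t' u' v' := mul_right_cancel h
  obtain ⟨h1, h2, h3⟩ := c.wU_inj (t := t) (u := u) (v := v) (t' := t') (u' := u') (v' := v')
    (by rw [hw]) (by rw [hw]) (by rw [hw])
  exact ⟨h1, h2, h3, rfl⟩

theorem ne {t u v : K} {α : Kˣ} {t' u' v' : K} {α' : Kˣ} {t'' u'' v'' : K} :
    wU e t u v * tU e α ≠ wU e t' u' v' * tU e α' * nU K * wU e t'' u'' v'' := by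
  intro h
  have h6 : B (wU e t u v * tU e α) 0 6 = B (wU e t' u' v' * tU e α' * nU K * wU e t'' u'' v'') 0 6 := by rw [h]
  rw [c.B_wt6, c.B_wtnw, c.B_low _ _ _ 0 6 (by decide), c.B_diag, zero_mul, one_mul] at h6
  exact inv_ne_zero (c.dd_ne α') (neg_eq_zero.1 h6.symm)

theorem inj2 {t u v : K} {α : Kˣ} {t' u' v' : K} {t₁ u₁ v₁ : K} {α₁ : Kˣ} {t₁' u₁' v₁' : K}
    (h : wU e t u v * tU e α * nU K * wU e t' u' v' = wU e t₁ u₁ v₁ * tU e α₁ * nU K * wU e t₁' u₁' v₁') :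
    t = t₁ ∧ u = u₁ ∧ v = v₁ ∧ α = α₁ ∧ t' = t₁' ∧ u' = u₁' ∧ v' = v₁' := by
  have h6 : ∀ i, B (wU e t u v * tU e α * nU K * wU e t' u' v') i 6 =
    B (wU e t₁ u₁ v₁ * tU e α₁ * nU K * wU e t₁' u₁' v₁') i 6 := fun i => by rw [h]
  simp only [c.B_wtnw, neg_inj] at h6
  have h0 := h6 0
  rw [c.B_diag, c.B_diag, one_mul, one_mul, inv_inj] at h0
  have hα : α = α₁ := c.tU_param_inj h0
  subst hα
  have hd : (c.dd α)⁻¹ ≠ 0 := inv_ne_zero (c.dd_ne α)
  obtain ⟨rfl, rfl, rfl⟩ := c.wU_inj (mul_right_cancel₀ hd (h6 1)) (mul_right_cancel₀ hd (h6 2))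
    (mul_right_cancel₀ hd (h6 3))
  have hw : wU e t' u' v' = wU e t₁' u₁' v₁' := mul_left_cancel h
  obtain ⟨h1, h2, h3⟩ := c.wU_inj (t := t') (u := u') (v := v') (t' := t₁') (u' := u₁') (v' := v₁')
    (by rw [hw]) (by rw [hw]) (by rw [hw])
  exact ⟨rfl, rfl, rfl, rfl, h1, h2, h3⟩

end Ctx

end Cfsg.Agent.ChevalleyStructure.Ree.Normal
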