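import Cfsg.Agent.ChevalleyStructure.Ree.Gens
set_option linter.all false

/-!
# The small Ree groups ²G₂(q), q ≥ 27, are perfect
-/

set_option autoImplicit false

namespace Cfsg.Agent.ChevalleyStructure.Ree.Perfect

open Cfsg.Lie Cfsg.Agent.ChevalleyStructure.Ree.Words Cfsg.Agent.ChevalleyStructure.Ree.Gens
open scoped commutatorElement

variable {K : Type*} [Field K] {e : ℕ}

theorem wU_00 (h : Theta K e) (v v1 : K) : wU e 0 0 v * wU e 0 0 v1 = wU e 0 0 (v + v1) := by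
  rw [wU_mul h]; congr 1 <;> ring

theorem wU_0 (h : Theta K e) (u v u1 v1 : K) : wU e 0 u v * wU e 0 u1 v1 = wU e 0 (u + u1) (v + v1) := by
  rw [wU_mul h]; congr 1 <;> ring

theorem wU_split (h : Theta K e) (t u v : K) : wU e t u v = wU e t 0 0 * wU e 0 u v := by
  rw [wU_mul h, zero_pow h.ne_zero]; congr 1 <;> ring

/-- If the torus element `α` satisfies `α² ≠ 1` and lies in `G` then the words `wU` lie in any normal subgroup
containing the commutators with the torus element. -/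
theorem wU_mem_of (h : Theta K e) (G D : Subgroup (GL chevG2.Idx K)) (hD : ⁅G, G⁆ ≤ D)
    (hG : ∀ t u v : K, wU e t u v ∈ G) {α : Kˣ} (hα : tU e α ∈ G) (hα2 : α ^ 2 ≠ 1) (t u v : K) :
    wU e t u v ∈ D := by
  set β : K := (α : K) ^ (3 * e) with hβ
  have hαK : (α : K) ≠ 0 := α.ne_zero
  have hβ0 : β ≠ 0 := pow_ne_zero _ hαK
  have hβe : β ^ e = α := h.inv _
  have hα3 : ((α : K) ^ 3) ^ e = β := by rw [← pow_mul]
  have hsq : (α : K) ^ 2 ≠ 1 := by
    intro hh
    apply hα2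
    apply Units.ext
    rw [Units.val_pow_eq_pow_val, hh, Units.val_one]
  have h1 : β ≠ 1 := by
    intro hh
    rw [hh, one_pow] at hβe
    exact hsq (by rw [← hβe, one_pow])
  have h2 : β * (α : K) ^ 3 ≠ 1 := by
    intro hh
    have h4 : (β * (α : K) ^ 3) ^ e = 1 := by rw [hh, one_pow]
    rw [mul_pow, hβe, hα3] at h4
    apply hsq
    calc (α : K) ^ 2 = (α : K) * β * (α : K) ^ 2 := by rw [h4, one_mul]
      _ = β * (α : K) ^ 3 := by ring
      _ = 1 := hh
  have h3 : β ^ 2 * (α : K) ^ 3 ≠ 1 := by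
    intro hh
    have h4 : (β ^ 2 * (α : K) ^ 3) ^ e = 1 := by rw [hh, one_pow]
    rw [mul_pow, ← pow_mul β, mul_comm 2 e, pow_mul, hβe, hα3] at h4
    have h5 : (α : K) = 1 := by
      calc (α : K) = (α : K) * (β ^ 2 * (α : K) ^ 3) := by rw [hh, mul_one]
        _ = ((α : K) ^ 2 * β) ^ 2 := by ring
        _ = 1 := by rw [h4, one_pow]
    exact hsq (by rw [h5, one_pow])
  have hβ2 : (α : K) ^ (6 * e) = β ^ 2 := by rw [hβ, ← pow_mul]; congr 1; ring
  -- the basic commutator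
  have key : ∀ t u v : K, wU e (β * t) (β * (α : K) ^ 3 * u) (β ^ 2 * (α : K) ^ 3 * v) * (wU e t u v)⁻¹ ∈ D := by
    intro t u v
    have := hD (Subgroup.commutator_mem_commutator hα (hG t u v))
    rw [commutatorElement_def, tU_conj_wU h, hβ2] at this
    exact this
  have s3 : ∀ v : K, wU e 0 0 v ∈ D := by
    intro v
    have hne : β ^ 2 * (α : K) ^ 3 - 1 ≠ 0 := sub_ne_zero.2 h3
    have := key 0 0 (v / (β ^ 2 * (α : K) ^ 3 - 1))
    rw [mul_zero, mul_zero] at this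
    have hinv : (wU e 0 0 (v / (β ^ 2 * (α : K) ^ 3 - 1)))⁻¹ = wU e 0 0 (-(v / (β ^ 2 * (α : K) ^ 3 - 1))) :=
      inv_eq_of_mul_eq_one_right (by rw [wU_00 h, add_neg_cancel, wU_zero h])
    rw [hinv, wU_00 h] at this
    have hv : β ^ 2 * (α : K) ^ 3 * (v / (β ^ 2 * (α : K) ^ 3 - 1)) + -(v / (β ^ 2 * (α : K) ^ 3 - 1)) = v := by
      field_simp
      ring
    rwa [hv] at this
  have s2 : ∀ u v : K, wU e 0 u v ∈ D := by
    intro u v
    have hne : β * (α : K) ^ 3 - 1 ≠ 0 := sub_ne_zero.2 h2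
    have := key 0 (u / (β * (α : K) ^ 3 - 1)) 0
    rw [mul_zero, mul_zero] at this
    have hinv : (wU e 0 (u / (β * (α : K) ^ 3 - 1)) 0)⁻¹ = wU e 0 (-(u / (β * (α : K) ^ 3 - 1))) 0 :=
      inv_eq_of_mul_eq_one_right (by rw [wU_0 h, add_neg_cancel, add_zero, wU_zero h])
    rw [hinv, wU_0 h] at this
    have hv : β * (α : K) ^ 3 * (u / (β * (α : K) ^ 3 - 1)) + -(u / (β * (α : K) ^ 3 - 1)) = u := by
      field_simp
      ring
    rw [hv, add_zero] at this
    have h6 : wU e 0 u v = wU e 0 u 0 * wU e 0 0 v := by rw [wU_0 h, add_zero, zero_add]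
    rw [h6]
    exact mul_mem this (s3 v)
  -- modulo D, wU depends only on t, additively
  have hne : β - 1 ≠ 0 := sub_ne_zero.2 h1
  have hx := key (t / (β - 1)) 0 0
  rw [mul_zero, mul_zero] at hx
  set s := t / (β - 1) with hs
  have e1 : wU e (β * s) 0 0 * (wU e s 0 0)⁻¹ * wU e s 0 0 = wU e (β * s) 0 0 := inv_mul_cancel_right _ _
  have hts : β * s = t + s := by
    rw [hs]; field_simp; ring
  -- wU t * wU s = wU (t+s) * (element of D)
  have e2 : wU e t 0 0 * wU e s 0 0 =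
      wU e (t + s) 0 0 * wU e 0 (0 - t * (s ^ e) ^ 3) (0 - t ^ 2 * (s ^ e) ^ 3 + t * s * (s ^ e) ^ 3) := by
    rw [← wU_split h, wU_mul h]
    congr 1
    · ring
    · ring
  have e3 : wU e t 0 0 = wU e (t + s) 0 0 *
      wU e 0 (0 - t * (s ^ e) ^ 3) (0 - t ^ 2 * (s ^ e) ^ 3 + t * s * (s ^ e) ^ 3) * (wU e s 0 0)⁻¹ := by
    rw [← e2, mul_inv_cancel_right]
  -- conjugates of elements of D by elements wU in G: use the commutator
  have e4 : wU e t 0 0 ∈ D := by
    rw [e3]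
    have hd := s2 (0 - t * (s ^ e) ^ 3) (0 - t ^ 2 * (s ^ e) ^ 3 + t * s * (s ^ e) ^ 3)
    set d := wU e 0 (0 - t * (s ^ e) ^ 3) (0 - t ^ 2 * (s ^ e) ^ 3 + t * s * (s ^ e) ^ 3)
    have hdG : d ∈ G := hG _ _ _
    have : wU e (t + s) 0 0 * d * (wU e s 0 0)⁻¹ =
        ⁅wU e (t + s) 0 0, d⁆ * d * (wU e (t + s) 0 0 * (wU e s 0 0)⁻¹) := by
      rw [commutatorElement_def]; group
    rw [this, ← hts]
    exact mul_mem (mul_mem (hD (Subgroup.commutator_mem_commutator (hG _ _ _) hdG)) hd) hx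
  rw [wU_split h]
  exact mul_mem e4 (s2 u v)

theorem exists_unit_sq_ne_one {K : Type*} [Field K] [Fintype K] (hK : 3 < Fintype.card K) :
    ∃ α : Kˣ, α ^ 2 ≠ 1 := by
  classical
  by_contra hcon
  push Not at hcon
  have h1 : ∀ x : K, x ≠ 0 → x = 1 ∨ x = -1 := by
    intro x hx
    have := congrArg Units.val (hcon (Units.mk0 x hx))
    rw [Units.val_pow_eq_pow_val, Units.val_mk0, Units.val_one] at this
    rw [sq, mul_self_eq_one_iff] at this
    exact this
  have h2 : (Finset.univ : Finset K) ⊆ {0, 1, -1} := by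
    intro x _
    by_cases hx : x = 0
    · simp [hx]
    · rcases h1 x hx with h | h <;> simp [h]
  have h3 := Finset.card_le_card h2
  have h4 : ({0, 1, -1} : Finset K).card ≤ 3 := Finset.card_le_three
  rw [Finset.card_univ] at h3
  omega

theorem le_commutator {K : Type*} [Field K] [Fintype K] {m : ℕ} (hK : Fintype.card K = 3 ^ (2 * m + 1))
    (hm : 1 ≤ m) : twistedG2 K (3 ^ m) ≤ ⁅twistedG2 K (3 ^ m), twistedG2 K (3 ^ m)⁆ := by
  have h := theta_of_card hK
  have hcard : 3 < Fintype.card K := by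
    rw [hK]
    calc 3 = 3 ^ 1 := rfl
      _ < 3 ^ (2 * m + 1) := Nat.pow_lt_pow_right (by decide) (by omega)
  obtain ⟨α, hα⟩ := exists_unit_sq_ne_one hcard
  have hU : ∀ t u v : K, wU (3 ^ m) t u v ∈ ⁅twistedG2 K (3 ^ m), twistedG2 K (3 ^ m)⁆ := fun t u v =>
    wU_mem_of h (twistedG2 K (3 ^ m)) _ le_rfl (fun t u v => wU_mem _ t u v) (tU_mem hK α) hα t u v
  rw [twistedG2_le_iff]
  refine ⟨hU, fun t u v => ?_⟩
  rw [← nU_conj_wU h]
  have hn := nU_mem h
  have hw := wU_mem (3 ^ m) t u v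
  have : nU K * wU (3 ^ m) t u v * (nU K)⁻¹ = ⁅nU K, wU (3 ^ m) t u v⁆ * wU (3 ^ m) t u v := by
    rw [commutatorElement_def]; group
  rw [this]
  exact mul_mem (Subgroup.commutator_mem_commutator hn hw) (hU t u v)

theorem commutator_eq_top {K : Type*} [Field K] [Fintype K] {m : ℕ} (hK : Fintype.card K = 3 ^ (2 * m + 1))
    (hm : 1 ≤ m) : commutator ↥(twistedG2 K (3 ^ m)) = ⊤ := by
  have h1 := le_commutator hK hm
  have h2 : (commutator ↥(twistedG2 K (3 ^ m))).map (twistedG2 K (3 ^ m)).subtype =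
      ⁅twistedG2 K (3 ^ m), twistedG2 K (3 ^ m)⁆ := Subgroup.map_subtype_commutator _
  rw [eq_top_iff]
  intro g _
  have h3 : (g : GL chevG2.Idx K) ∈ (commutator ↥(twistedG2 K (3 ^ m))).map (twistedG2 K (3 ^ m)).subtype := by
    rw [h2]; exact h1 g.2
  obtain ⟨g', hg', hgg'⟩ := h3
  have : g' = g := Subtype.ext hgg'
  rwa [← this]

end Cfsg.Agent.ChevalleyStructure.Ree.Perfect
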