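import Cfsg.Agent.ChevalleyStructure.Ree.Gens
set_option linter.all false

/-!
# The Borel subgroup of G₂ is triangular, and the core of the Borel subgroup of a small Ree group is trivial
-/

set_option autoImplicit false

namespace Cfsg.Agent.ChevalleyStructure.Ree.Borel

open Cfsg.Lie Cfsg.Agent.ChevalleyStructure.Ree.Calc Cfsg.Agent.ChevalleyStructure.Ree.Checks
  Cfsg.Agent.ChevalleyStructure.Ree.Words Cfsg.Agent.ChevalleyStructure.Ree.Gens

/-- `A_{r,s} = Σ_i c_i(r) A_{p_i, s}` -/
def cartanInt (r s : ℕ) : ℤ :=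
  (chevG2.coroot.getD r #[]).getD 0 0 * chevG2.cartan 0 s + (chevG2.coroot.getD r #[]).getD 1 0 * chevG2.cartan 1 s

theorem check_h : (List.range 12).all (fun r =>
    check 0 [xS 0 r (cu 1 1 0), xS 0 (11 - r) (cu (-1) (-1) 0), xS 0 r (cu 1 1 0),
      xS 0 r (cu (-1) 0 0), xS 0 (11 - r) (cu 1 0 0), xS 0 r (cu (-1) 0 0)]
      [hS (cartanInt r 7, 0) (cartanInt r 6, 0)]) = true := by
  decide +kernel

section

variable {K : Type*} [Field K]

theorem neg_eq {r : ℕ} (hr : r < 12) : chevG2.neg r = 11 - r :=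
  (by decide : ∀ r < 12, chevG2.neg r = 11 - r) r hr

/-- `h_r(t)` is diagonal, for every root of G₂ over every field. -/
theorem hMat_eq {r : ℕ} (hr : r < 12) {t : K} (ht : t ≠ 0) :
    chevG2.hMat K r t = hMat (t ^ cartanInt r 7) (t ^ cartanInt r 6) := by
  have h1 := check_sound (hn0 (K := K)) ⟨t, 1, 0, 0, ht, one_ne_zero⟩ _ _ (all_range check_h hr)
  have hr' : 11 - r < 12 := by omega
  simp only [List.map_cons, List.map_nil, List.prod_cons, List.prod_nil, mul_one,
    toMat_xS hn0 _ _ hr, toMat_xS hn0 _ _ hr', toMat_hS, eval_cu] at h1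
  simp only [ChevalleyDatum.hMat, ChevalleyDatum.hWord, ChevalleyDatum.nWord, ChevalleyDatum.wordMat, neg_eq hr,
    List.cons_append, List.nil_append, List.map_cons, List.map_nil, List.prod_cons, List.prod_nil, mul_one]
  simpa using h1

/-- The order of the basis: negative roots, then the `h`s, then positive roots. -/
def key : chevG2.Idx → ℕ
  | Sum.inl _ => 6
  | Sum.inr s => if s.val < 6 then s.val else s.val + 1

theorem entry_pos : ∀ r : Fin 12, 6 ≤ r.val → ∀ i j : chevG2.Idx,
    entry chevG2 r.val (natIdx i) (natIdx j) = [] ∨ i = j ∨ key j < key i := by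
  decide +kernel

theorem entry_h : ∀ r : Fin 12, ∀ k : Fin 2, entry chevG2 r.val (Sum.inl k.val) (Sum.inl k.val) = [(1, 0)] := by
  decide +kernel

/-- lower triangular with ones on the `h`s -/
structure IsLT (g : Matrix chevG2.Idx chevG2.Idx K) : Prop where
  tri : ∀ i j, g i j ≠ 0 → i = j ∨ key j < key i
  one : ∀ k, g (Sum.inl k) (Sum.inl k) = 1

theorem IsLT.mul {g h : Matrix chevG2.Idx chevG2.Idx K} (hg : IsLT g) (hh : IsLT h) : IsLT (g * h) := by
  constructor
  · intro i j hij
    rw [Matrix.mul_apply] at hij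
    obtain ⟨k, _, hk⟩ := Finset.exists_ne_zero_of_sum_ne_zero hij
    rcases hg.tri i k (left_ne_zero_of_mul hk) with h1 | h1 <;>
      rcases hh.tri k j (right_ne_zero_of_mul hk) with h2 | h2
    · exact Or.inl (h1.trans h2)
    · exact Or.inr (h1 ▸ h2)
    · exact Or.inr (h2 ▸ h1)
    · exact Or.inr (h2.trans h1)
  · intro k
    rw [Matrix.mul_apply, Finset.sum_eq_single (Sum.inl k)]
    · rw [hg.one, hh.one, one_mul]
    · intro b _ hb
      by_contra hne
      rcases hg.tri _ _ (left_ne_zero_of_mul hne) with h1 | h1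
      · exact hb h1.symm
      · rcases hh.tri _ _ (right_ne_zero_of_mul hne) with h2 | h2
        · exact hb h2
        · exact absurd (h1.trans h2) (lt_irrefl _)
    · exact fun h => absurd (Finset.mem_univ _) h

theorem isLT_one : IsLT (1 : Matrix chevG2.Idx chevG2.Idx K) :=
  ⟨fun i j h => Or.inl (by by_contra hij; exact h (Matrix.one_apply_ne hij)), fun _ => Matrix.one_apply_eq _⟩

theorem isLT_X {r : ℕ} (h6 : 6 ≤ r) (hr : r < 12) (t : K) : IsLT (X r t) := by
  have hx : X r t = chevG2.xMat K ⟨r, hr⟩ t := dif_pos hr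
  rw [hx]
  constructor
  · intro i j hij
    rw [xMat_eq_entry] at hij
    rcases entry_pos ⟨r, hr⟩ h6 i j with h1 | h1
    · exfalso
      apply hij
      have : entry chevG2 (⟨r, hr⟩ : Fin chevG2.nroots).val (natIdx i) (natIdx j) = [] := h1
      rw [this]; rfl
    · exact h1
  · intro k
    rw [xMat_eq_entry]
    have : entry chevG2 (⟨r, hr⟩ : Fin chevG2.nroots).val (natIdx (Sum.inl k : chevG2.Idx)) (natIdx (Sum.inl k : chevG2.Idx)) =
      [(1, 0)] := entry_h ⟨r, hr⟩ k
    rw [this]
    simp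

theorem isLT_hMat (α β : K) : IsLT (hMat α β) := by
  constructor
  · intro i j h
    left
    by_contra hij
    exact h (Matrix.diagonal_apply_ne _ hij)
  · intro k
    exact Matrix.diagonal_apply_eq _ _

theorem posRoot_iff : ∀ r : ℕ, chevG2.IsPosRoot r → 6 ≤ r ∧ r < 12 := by
  intro r hr
  have h12 : r < 12 := hr.1
  refine ⟨?_, h12⟩
  by_contra h6
  have := (by decide : ∀ r < 6, ¬ chevG2.IsPosRoot r) r (by omega)
  exact this hr

/-- every element of `B` is lower triangular -/
theorem isLT_of_mem_borel {g : GL chevG2.Idx K} (hg : g ∈ chevG2.borelSubgroup K) :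
    IsLT (g : Matrix chevG2.Idx chevG2.Idx K) := by
  have main : chevG2.borelSubgroup K ≤ Subgroup.closure
      {g : GL chevG2.Idx K | IsLT (g : Matrix chevG2.Idx chevG2.Idx K) ∧
        IsLT ((g⁻¹ : GL chevG2.Idx K) : Matrix chevG2.Idx chevG2.Idx K)} := by
    refine sup_le ?_ ?_
    · refine Subgroup.closure_mono ?_
      rintro g ⟨r, t, hr, hg⟩
      obtain ⟨h6, h12⟩ := posRoot_iff r hr
      have : g = xU r t := Units.ext hg
      rw [this]
      exact ⟨isLT_X h6 h12 t, isLT_X h6 h12 (-t)⟩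
    · refine Subgroup.closure_mono ?_
      rintro g ⟨r, t, hr, ht, hg⟩
      rw [hMat_eq hr ht] at hg
      have : g = hU ((Units.mk0 t ht) ^ cartanInt r 7) ((Units.mk0 t ht) ^ cartanInt r 6) := by
        apply Units.ext
        rw [hg, coe_hU]
        simp
      rw [this]
      exact ⟨isLT_hMat _ _, isLT_hMat _ _⟩
  have hg' := main hg
  clear hg
  have h2 : IsLT (g : Matrix chevG2.Idx chevG2.Idx K) ∧
        IsLT ((g⁻¹ : GL chevG2.Idx K) : Matrix chevG2.Idx chevG2.Idx K) := by
    induction hg' using Subgroup.closure_induction with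
    | mem x hx => exact hx
    | one => exact ⟨isLT_one, by rw [inv_one]; exact isLT_one⟩
    | mul x y _ _ hx hy =>
      refine ⟨hx.1.mul hy.1, ?_⟩
      rw [mul_inv_rev]
      exact hy.2.mul hx.2
    | inv x _ hx => exact ⟨hx.2, by rw [inv_inv]; exact hx.1⟩
  exact h2.1

/-! ### opposite -/

/-- `h ↦ h`, `r ↦ -r` on indices -/
def opp : chevG2.Idx → chevG2.Idx
  | Sum.inl k => Sum.inl k
  | Sum.inr s => Sum.inr ⟨11 - s.val, by have : s.val < 12 := s.isLt; show 11 - s.val < 12; omega⟩

theorem opp_opp (i : chevG2.Idx) : opp (opp i) = i := by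
  rcases i with i | i
  · rfl
  · have : i.val < 12 := i.isLt
    show (Sum.inr ⟨11 - (11 - i.val), _⟩ : chevG2.Idx) = Sum.inr i
    congr 1
    apply Fin.ext
    show 11 - (11 - i.val) = i.val
    omega

theorem key_opp (i : chevG2.Idx) : key (opp i) + key i = 12 := by
  rcases i with i | i
  · rfl
  · have : i.val < 12 := i.isLt
    show (if 11 - i.val < 6 then 11 - i.val else 11 - i.val + 1) + (if i.val < 6 then i.val else i.val + 1) = 12
    split_ifs <;> omega

theorem nMat_apply (i j : chevG2.Idx) : nMat K i j = if j = opp i then -1 else 0 := by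
  rcases i with i | i <;> rcases j with j | j
  · show (if i = j then (-1 : K) else 0) = if (Sum.inl j : chevG2.Idx) = Sum.inl i then -1 else 0
    simp only [Sum.inl.injEq, eq_comm]
  · show (0 : K) = if (Sum.inr j : chevG2.Idx) = Sum.inl i then -1 else 0
    rw [if_neg (by simp)]
  · show (0 : K) = if (Sum.inl j : chevG2.Idx) = Sum.inr _ then -1 else 0
    rw [if_neg (by simp)]
  · have hi : i.val < 12 := i.isLt
    have hj : j.val < 12 := j.isLt
    show (if i.val + j.val = 11 then (-1 : K) else 0) = if (Sum.inr j : chevG2.Idx) = Sum.inr ⟨11 - i.val, _⟩ then -1 else 0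
    congr 1
    apply propext
    rw [Sum.inr.injEq, Fin.ext_iff]
    show i.val + j.val = 11 ↔ j.val = 11 - i.val
    omega

theorem n_mul_n (g : Matrix chevG2.Idx chevG2.Idx K) (i j : chevG2.Idx) :
    (nMat K * g * nMat K) i j = g (opp i) (opp j) := by
  rw [Matrix.mul_apply, Finset.sum_eq_single (opp j)]
  · rw [Matrix.mul_apply, Finset.sum_eq_single (opp i)]
    · rw [nMat_apply, nMat_apply, if_pos rfl, if_pos (opp_opp j).symm]
      ring
    · intro b _ hb
      rw [nMat_apply, if_neg hb, zero_mul]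
    · exact fun h => absurd (Finset.mem_univ _) h
  · intro b _ hb
    rw [nMat_apply, if_neg, mul_zero]
    intro hj
    apply hb
    rw [hj, opp_opp]
  · exact fun h => absurd (Finset.mem_univ _) h

theorem word_apply {n : ℕ} (hn : (n : K) = 0) (v : Val K) (w : List SMat) (hw : ∀ A ∈ w, A.ok = true)
    (i j : chevG2.Idx) :
    (w.map (toMat v)).prod i j = Pol.eval v ((wordAct n w (basisVec (pos j))).getD (pos i) []) := by
  have h := congrFun (eval_wordAct hn v w hw (basisVec (pos j))) i
  rw [evalVec_basis] at h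
  rw [evalVec] at h
  rw [h]
  simp

/-- words whose first or second column meets a given positive root row -/
def posWord (r : ℕ) : List SMat :=
  if r = 6 ∨ r = 7 then [xS 3 7 (cu 1 0 0), xS 3 6 (cu 1 0 0), xS 3 8 (cu 1 0 0), xS 3 9 (cu 1 0 0)]
  else if r = 8 ∨ r = 10 then [xS 3 8 (cu 1 0 0), xS 3 10 (cu 1 0 0)]
  else [xS 3 9 (cu 1 0 0), xS 3 11 (cu 1 0 0)]

def isUnitPol (l : Pol) : Bool := decide (l = [((0, 0, 0, 0), 1)]) || decide (l = [((0, 0, 0, 0), 2)])

theorem check_entries : ((List.range 6).map (fun r => r + 6)).all (fun r => (posWord r).all SMat.ok &&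
    (List.range 2).any fun k => isUnitPol ((wordAct 3 (posWord r) (basisVec k)).getD (2 + r) [])) = true := by
  decide +kernel

variable {e : ℕ}

theorem W_100 (h : Theta K e) : W e (1 : K) 0 0 = X 7 1 * X 6 1 * X 8 1 * X 9 1 := by
  rw [W_eq, P, zero_pow h.ne_zero]
  simp [X_zero (r := 10) (by decide), X_zero (r := 11) (by decide)]

theorem W_001 (h : Theta K e) : W e (0 : K) 0 1 = X 9 1 * X 11 1 := by
  rw [W_eq, P, zero_pow h.ne_zero, zero_pow (Nat.succ_ne_zero _), zero_pow (Nat.succ_ne_zero _), add_zero]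
  simp [X_zero (r := 6) (by decide), X_zero (r := 7) (by decide),
    X_zero (r := 8) (by decide), X_zero (r := 10) (by decide)]

/-- for each positive root there is an element of the Ree group with non-zero entry in that row and an `h`-column -/
theorem exists_entry (h : Theta K e) {r : ℕ} (h6 : 6 ≤ r) (hr : r < chevG2.nroots) :
    ∃ t u v : K, ∃ k : Fin chevG2.rank, (W e t u v) (Sum.inr ⟨r, hr⟩ : chevG2.Idx) (Sum.inl k) ≠ 0 := by
  have h3 := h.three'
  have hr12 : r < 12 := hr
  have hmem : r ∈ ((List.range 6).map (fun r => r + 6)) := by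
    rw [List.mem_map]
    exact ⟨r - 6, List.mem_range.2 (by omega), by omega⟩
  have hc := List.all_eq_true.1 check_entries r hmem
  rw [Bool.and_eq_true, List.any_eq_true, List.all_eq_true] at hc
  obtain ⟨hok', k', hk', hk⟩ := hc
  rw [List.mem_range] at hk'
  obtain ⟨k, rfl⟩ : ∃ k : Fin chevG2.rank, k.val = k' := ⟨⟨k', hk'⟩, rfl⟩
  set vv : Val K := ⟨1, 1, 0, 0, one_ne_zero, one_ne_zero⟩ with hvv
  have hval : ((posWord r).map (toMat vv)).prod (Sum.inr ⟨r, hr⟩ : chevG2.Idx) (Sum.inl k) ≠ 0 := by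
    rw [word_apply h.three vv _ hok']
    show Pol.eval vv ((wordAct 3 (posWord r) (basisVec k.val)).getD (2 + r) []) ≠ 0
    unfold isUnitPol at hk
    rw [Bool.or_eq_true, decide_eq_true_eq, decide_eq_true_eq] at hk
    rcases hk with hk | hk
    · rw [hk]; simp [Pol.eval, Mon.eval]
    · rw [hk]
      have : Pol.eval vv [((0, 0, 0, 0), 2)] = 2 := by simp [Pol.eval, Mon.eval]
      rw [this]
      intro h2
      exact one_ne_zero (α := K) (by linear_combination h3 - h2)
  have hX : ∀ s : ℕ, s < 12 → toMat vv (xS 3 s (cu 1 0 0)) = X s 1 := by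
    intro s hs
    rw [toMat_xS h.three _ _ hs, eval_cu]; simp
  unfold posWord at hval
  by_cases h67 : r = 6 ∨ r = 7
  · rw [if_pos h67] at hval
    refine ⟨1, 0, 0, k, ?_⟩
    rw [W_100 h]
    simpa only [List.map_cons, List.map_nil, List.prod_cons, List.prod_nil, mul_one, hX 7 (by decide),
      hX 6 (by decide), hX 8 (by decide), hX 9 (by decide), mul_assoc] using hval
  · rw [if_neg h67] at hval
    by_cases h810 : r = 8 ∨ r = 10
    · rw [if_pos h810] at hval
      refine ⟨0, 1, 0, k, ?_⟩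
      rw [W_0u0 h, one_pow]
      simpa only [List.map_cons, List.map_nil, List.prod_cons, List.prod_nil, mul_one, hX 8 (by decide),
        hX 10 (by decide)] using hval
    · rw [if_neg h810] at hval
      refine ⟨0, 0, 1, k, ?_⟩
      rw [W_001 h]
      simpa only [List.map_cons, List.map_nil, List.prod_cons, List.prod_nil, mul_one, hX 9 (by decide),
        hX 11 (by decide)] using hval

/-- A subgroup of `B` normalised by the Ree group is trivial. -/
theorem eq_bot_of_le_borel (h : Theta K e) (C : Subgroup (GL chevG2.Idx K)) (hC : C ≤ chevG2.borelSubgroup K)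
    (hn : ∀ g ∈ twistedG2 K e, ∀ c ∈ C, g * c * g⁻¹ ∈ C) : C = ⊥ := by
  -- elements of `C` are diagonal, with ones on the `h`s
  have hnconj : ∀ c : GL chevG2.Idx K, ∀ i j,
      ((nU K * c * (nU K)⁻¹ : GL chevG2.Idx K) : Matrix chevG2.Idx chevG2.Idx K) i j =
        (c : Matrix chevG2.Idx chevG2.Idx K) (opp i) (opp j) := by
    intro c i j
    rw [nU_inv, Units.val_mul, Units.val_mul, coe_nU, n_mul_n]
  have hdiag : ∀ c ∈ C, ∀ i j, (c : Matrix chevG2.Idx chevG2.Idx K) i j ≠ 0 → i = j := by
    intro c hc i j hij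
    rcases (isLT_of_mem_borel (hC hc)).tri i j hij with h1 | h1
    · exact h1
    · have h2 := isLT_of_mem_borel (hC (hn _ (nU_mem h) c hc))
      have h3 := h2.tri (opp i) (opp j) (by rw [hnconj, opp_opp, opp_opp]; exact hij)
      rcases h3 with h3 | h3
      · rw [← opp_opp i, h3, opp_opp]
      · have k1 := key_opp i
        have k2 := key_opp j
        omega
  have hone : ∀ c ∈ C, ∀ k, (c : Matrix chevG2.Idx chevG2.Idx K) (Sum.inl k) (Sum.inl k) = 1 :=
    fun c hc k => (isLT_of_mem_borel (hC hc)).one k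
  -- positive roots
  have h12 : chevG2.nroots = 12 := rfl
  have hpos : ∀ c ∈ C, ∀ r (h6 : 6 ≤ r) (hr : r < chevG2.nroots),
      (c : Matrix chevG2.Idx chevG2.Idx K) (Sum.inr ⟨r, hr⟩ : chevG2.Idx) (Sum.inr ⟨r, hr⟩ : chevG2.Idx) = 1 := by
    intro c hc r h6 hr
    obtain ⟨t, u, v, k, hk⟩ := exists_entry h h6 hr
    set w := wU e t u v with hw
    have hwm : w ∈ twistedG2 K e := wU_mem e t u v
    set d := w⁻¹ * c * w with hd
    have hdC : d ∈ C := by
      have := hn w⁻¹ (inv_mem hwm) c hc
      rwa [inv_inv] at this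
    have hcw : (c : Matrix chevG2.Idx chevG2.Idx K) * (w : Matrix chevG2.Idx chevG2.Idx K) =
        (w : Matrix chevG2.Idx chevG2.Idx K) * (d : Matrix chevG2.Idx chevG2.Idx K) := by
      rw [← Units.val_mul, ← Units.val_mul, hd]
      congr 1
      group
    have h5 := congrFun (congrFun hcw (Sum.inr ⟨r, hr⟩)) (Sum.inl k)
    rw [Matrix.mul_apply, Matrix.mul_apply, Finset.sum_eq_single (Sum.inr ⟨r, hr⟩),
      Finset.sum_eq_single (Sum.inl k)] at h5
    · rw [hone d hdC k, mul_one, hw, coe_wU] at h5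
      exact mul_right_cancel₀ hk (by rw [h5, one_mul])
    · intro b _ hb
      by_contra hne
      exact hb (hdiag d hdC _ _ (right_ne_zero_of_mul hne))
    · exact fun h => absurd (Finset.mem_univ _) h
    · intro b _ hb
      by_contra hne
      exact hb (hdiag c hc _ _ (left_ne_zero_of_mul hne)).symm
    · exact fun h => absurd (Finset.mem_univ _) h
  rw [eq_bot_iff]
  intro c hc
  rw [Subgroup.mem_bot]
  apply Units.ext
  ext i j
  rw [Units.val_one, Matrix.one_apply]
  by_cases hij : i = j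
  · subst hij
    rw [if_pos rfl]
    rcases i with k | r
    · exact hone c hc k
    · by_cases h6 : 6 ≤ r.val
      · exact hpos c hc r.val h6 r.isLt
      · have hr : r.val < 12 := r.isLt
        have h7 := hpos _ (hn _ (nU_mem h) c hc) (11 - r.val) (by omega) (by omega)
        rw [hnconj] at h7
        have : opp (Sum.inr ⟨11 - r.val, by omega⟩ : chevG2.Idx) = Sum.inr r := by
          have : (Sum.inr ⟨11 - r.val, by omega⟩ : chevG2.Idx) = opp (Sum.inr r) := rfl
          rw [this, opp_opp]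
        rwa [this] at h7
  · rw [if_neg hij]
    by_contra hne
    exact hij (hdiag c hc i j hne)

omit [Field K] in
theorem normalCore_aux {Γ : Type*} [Group Γ] (B G : Subgroup Γ)
    (H : ∀ C : Subgroup Γ, C ≤ B → (∀ g ∈ G, ∀ c ∈ C, g * c * g⁻¹ ∈ C) → C = ⊥) :
    ((B ⊓ G).subgroupOf G).normalCore = ⊥ := by
  obtain ⟨N, hN⟩ : ∃ N, N = ((B ⊓ G).subgroupOf G).normalCore := ⟨_, rfl⟩
  have hNn : N.Normal := by rw [hN]; infer_instance
  have hle : N ≤ (B ⊓ G).subgroupOf G := by rw [hN]; exact Subgroup.normalCore_le _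
  rw [← hN]
  have h1 : N.map G.subtype = ⊥ := by
    apply H
    · intro y hy
      obtain ⟨x, hx, rfl⟩ := Subgroup.mem_map.1 hy
      have := hle hx
      rw [Subgroup.mem_subgroupOf] at this
      exact this.1
    · intro g hg y hy
      obtain ⟨x, hx, rfl⟩ := Subgroup.mem_map.1 hy
      exact Subgroup.mem_map.2 ⟨⟨g, hg⟩ * x * ⟨g, hg⟩⁻¹, hNn.conj_mem x hx ⟨g, hg⟩, rfl⟩
  exact (Subgroup.map_eq_bot_iff_of_injective _ G.subtype_injective).1 h1

theorem normalCore_eq_bot (h : Theta K e) :
    ((chevG2.borelSubgroup K ⊓ twistedG2 K e).subgroupOf (twistedG2 K e)).normalCore = ⊥ :=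
  normalCore_aux _ _ fun C hC hn => eq_bot_of_le_borel h C hC hn

end

end Cfsg.Agent.ChevalleyStructure.Ree.Borel
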